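import Groth.Agent.Omega.SmoothFibreDim
import Groth.Agent.GrpArtin.Basic
import Groth.Agent.GrpScheme.Dimension
import Groth.Agent.GrpScheme.IdComponent
import Groth.Agent.VarDim.Scheme
import Mathlib

/-!
# The fibre dimension of a smooth group scheme is locally constant

For smooth morphisms the fibre dimension is the rank of the differentials; this avoids the Cohen–Macaulay
machinery of the general flat case.
-/

set_option autoImplicit false
universe u
open CategoryTheory MonoidalCategory CartesianMonoidalCategory MonObj GrpObj AlgebraicGeometry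

noncomputable section

namespace Groth.Agent.MinPar65.FibreDim

lemma fibreDimAt_eq {X Y : Scheme.{u}} (f : X ⟶ Y) (x : X) (s : Y) (h : f x = s) (x₀ : f.fiber s)
    (h₀ : f.fiberι s x₀ = x) : FlatMor.fibreDimAt f x = FlatMor.localDim (f.fiber s) x₀ := by
  subst h
  have : f.asFiber x = x₀ := (f.fiberι (f x)).isEmbedding.injective (by rw [f.fiberι_asFiber, h₀])
  rw [← this]
  rfl

lemma localDim_eq_of_isClosed {K : Type u} [Field K] (G : Over (Spec (CommRingCat.of K))) [GrpObj G]
    [LocallyOfFiniteType G.hom] (x : G.left) (hx : IsClosed {x}) :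
    FlatMor.localDim G.left x = topologicalKrullDim G.left := by
  let _ : G.left.Over (Spec (CommRingCat.of K)) := ⟨G.hom⟩
  have : LocallyOfFiniteType (G.left ↘ Spec (CommRingCat.of K)) := ‹LocallyOfFiniteType G.hom›
  refine le_antisymm ?_ ?_
  · refine (iInf_le _ (⟨⊤, trivial⟩ : {U : TopologicalSpace.Opens G.left // x ∈ U})).trans ?_
    exact topologicalKrullDim_subspace_le G.left _
  · obtain ⟨n, hn, h⟩ := Groth.Agent.VarDim.localDim_eq_coheight_add K x
    rw [← Groth.Agent.GrpScheme.Dimension.coheight_eq_topologicalKrullDim G x hx, h, hn]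
    exact_mod_cast Nat.le_add_right n _

/-- The fibre dimension of a smooth morphism is locally constant. -/
theorem isLocallyConstant_fibreDimAt {X S : Scheme.{u}} (f : X ⟶ S) [Smooth f] :
    IsLocallyConstant (fun x : X => FlatMor.fibreDimAt f x) := by
  rw [IsLocallyConstant.iff_exists_open]
  intro x
  obtain ⟨V, hV, hxV⟩ := Omega.SmoothFibreDim.exists_mem (f x)
  obtain ⟨U, hU, hxU, e⟩ := Omega.SmoothFibreDim.exists_nhd f x hxV
  obtain ⟨Q, hQ⟩ := Omega.SmoothFibreDim.exists_pt hU hxU
  let _ := (f.appLE V U e).hom.toAlgebra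
  have hs : RingHom.Smooth (f.appLE V U e).hom :=
    HasRingHomProperty.appLE (P := @Smooth) f inferInstance ⟨V, hV⟩ ⟨U, hU⟩ e
  have : Algebra.Smooth Γ(S, V) Γ(X, U) := hs
  have key : ∀ Q : Spec Γ(X, U), FlatMor.fibreDimAt f (hU.fromSpec Q) =
      ((Module.rankAtStalk (R := Γ(X, U)) Ω[Γ(X, U)⁄Γ(S, V)] Q : ℕ) : WithBot ℕ∞) := fun Q => by
    rw [← Omega.SmoothFibreDim.fibreDimAt_appLE f hV hU e Q]
    exact Omega.SmoothFibreDim.fibreDimAt_spec Γ(S, V) Γ(X, U) Q
  obtain ⟨W, hWo, hQW, hW⟩ := (IsLocallyConstant.iff_exists_open _).1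
    (Module.isLocallyConstant_rankAtStalk (R := Γ(X, U)) (M := Ω[Γ(X, U)⁄Γ(S, V)])) Q
  refine ⟨hU.fromSpec '' W, hU.fromSpec.isOpenEmbedding.isOpenMap W hWo, ⟨Q, hQW, hQ⟩, ?_⟩
  rintro _ ⟨Q', hQ', rfl⟩
  rw [← hQ, key, key]
  exact congrArg (fun n : ℕ => ((n : ℕ) : WithBot ℕ∞)) (hW Q' hQ')

/-- The dimension of the fibres of a smooth group scheme is locally constant. -/
theorem isLocallyConstant_dim {S : Scheme.{u}} (G : Over S) [GrpObj G] [Smooth G.hom] :
    IsLocallyConstant (fun s : S => topologicalKrullDim ↥(G.hom.base ⁻¹' {s})) := by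
  let e : S ⟶ G.left := (η[G] : 𝟙_ (Over S) ⟶ G).left
  have he : ∀ s : S, G.hom (e s) = s := fun s => by
    rw [← Scheme.Hom.comp_apply]
    exact congrArg (fun m : S ⟶ S => m s) (Over.w (η[G] : 𝟙_ (Over S) ⟶ G))
  have key : ∀ s : S, topologicalKrullDim ↥(G.hom.base ⁻¹' {s}) = FlatMor.fibreDimAt G.hom (e s) := by
    intro s
    let f := S.fromSpecResidueField s
    let H : Over (Spec (CommRingCat.of (S.residueField s))) := Groth.Agent.GrpArtin.bc f G
    let _ : GrpObj H := Groth.Agent.GrpArtin.grpObjBC f G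
    have : LocallyOfFiniteType H.hom :=
      inferInstanceAs (LocallyOfFiniteType (Limits.pullback.snd G.hom f))
    let p : Spec (S.residueField s) := IsLocalRing.closedPoint _
    let one : 𝟙_ (Over (Spec (S.residueField s))) ⟶ H := η[H]
    let x₀ : H.left := one.left p
    have h1 : Groth.Agent.GrpArtin.down f (1 : 𝟙_ (Over (Spec (S.residueField s))) ⟶ H) = 1 := by
      have h2 := Groth.Agent.GrpArtin.down_mul f (1 : 𝟙_ (Over (Spec (S.residueField s))) ⟶ H) 1
      rw [_root_.mul_one] at h2
      exact left_eq_mul.mp h2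
    have hproj : G.hom.fiberι s x₀ = e s := by
      have h3 := congrArg (fun m => m.left p) h1
      simp only [Groth.Agent.GrpArtin.down_left, Hom.one_def, Over.comp_left] at h3
      rw [Scheme.Hom.comp_apply, Scheme.Hom.comp_apply, Scheme.Hom.comp_apply] at h3
      refine (Eq.trans ?_ (h3.trans ?_))
      · exact congrArg (fun q => Limits.pullback.fst G.hom f (one.left q)) (Subsingleton.elim (α := ↥(Spec (S.residueField s))) _ _)
      · exact congrArg e (Scheme.fromSpecResidueField_apply s p)
    have : IsSeparated H.hom := Groth.Agent.GrpScheme.IdComponent.isSeparated H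
    have : IsClosedImmersion one.left := by
      have : IsClosedImmersion (one.left ≫ H.hom) := by
        rw [Over.w one]
        exact inferInstanceAs (IsClosedImmersion (𝟙 _))
      exact IsClosedImmersion.of_comp one.left H.hom
    have hclosed : IsClosed ({x₀} : Set H.left) := by
      have hr : Set.range one.left = {x₀} := by
        refine Set.eq_singleton_iff_unique_mem.mpr ⟨⟨p, rfl⟩, ?_⟩
        rintro _ ⟨q, rfl⟩
        exact congrArg _ (Subsingleton.elim (α := ↥(Spec (S.residueField s))) q p)
      rw [← hr]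
      exact one.left.isClosedEmbedding.isClosed_range
    rw [fibreDimAt_eq G.hom (e s) s (he s) x₀ hproj]
    refine Eq.trans ?_ (localDim_eq_of_isClosed H x₀ hclosed).symm
    exact (G.hom.fiberHomeo s).symm.isHomeomorph.topologicalKrullDim_eq
  rw [funext key]
  exact (isLocallyConstant_fibreDimAt G.hom).comp_continuous e.continuous

end Groth.Agent.MinPar65.FibreDim
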